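import Groth.Agent.H6KS.GrassEpi
import Groth.Agent.KFlatLib.Scheme.TildePC
import Groth.Agent.QuotRep.GrassUniv

/-!
# Existence of Grassmannians of quasi-coherent modules of finite type

A copy of `GrassSch.Exists` with lighter imports.
-/

set_option autoImplicit false
set_option linter.style.haveILetI false
set_option linter.unusedSectionVars false
set_option backward.isDefEq.respectTransparency false
set_option backward.isDefEq.respectTransparency.types false
set_option maxHeartbeats 1000000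
set_option synthInstance.maxHeartbeats 400000

universe u

open CategoryTheory CategoryTheory.Limits AlgebraicGeometry TopologicalSpace Opposite

attribute [-instance] CategoryTheory.catToReflQuiver

noncomputable section

namespace Groth.Agent.H6KS.Grass

open Groth.Agent Groth.Agent.QuotRep

theorem pullQ_pullTop {X G T : Scheme.{u}} {E : X.Modules} (h : T ⟶ G) (π : G ⟶ X) (g : T ⟶ X) (hg : h ≫ π = g)
    {Q : G.Modules} (q : (Scheme.Modules.pullback π).obj E ⟶ Q) (x : Γ(E, (⊤ : X.Opens))) :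
    (pullQ h π g hg q).app ⊤ (pullTop g E x) = pullTop h Q (q.app ⊤ (pullTop π E x)) := by
  subst hg
  have hτ : ((LimMod.trIso h π (h ≫ π) rfl).hom.app E).app ⊤ (pullTop h _ (pullTop π E x)) = pullTop (h ≫ π) E x := by
    refine Eq.trans ?_ (pullTop_comp (L := E) h π x)
    simp [LimMod.trIso, Scheme.Modules.pullbackCongr]
  show ((Scheme.Modules.pullback h).map q).app ⊤
    (((LimMod.trIso h π (h ≫ π) rfl).inv.app E).app ⊤ (pullTop (h ≫ π) E x)) = _
  rw [← hτ]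
  exact (congrArg (((Scheme.Modules.pullback h).map q).app ⊤)
    congr(($((LimMod.trIso h π (h ≫ π) rfl).hom_inv_id_app E)).app ⊤
      (pullTop h _ (pullTop π E x)))).trans (ExistEasy.pullSec_natural h q (le_top : (⊤ : T.Opens) ≤ h ⁻¹ᵁ ⊤) (pullTop π E x))

theorem pullFreeIso_inv_eq {X Y : Scheme.{u}} (g : Y ⟶ X) (N : ℕ) :
    (KFlatLib.pullFreeIso g N).inv = secHom fun l => pullTop g (FlatMod.freeMod X N) (basis X N l) := by
  rw [← secHom_pullSec, secHom_basis, CategoryTheory.Functor.map_id]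
  exact (Category.comp_id _).symm

theorem pullFreeIso_inv_basis {X Y : Scheme.{u}} (g : Y ⟶ X) (N : ℕ) (l : Fin N) :
    (KFlatLib.pullFreeIso g N).inv.app ⊤ (basis Y N l) = pullTop g (FlatMod.freeMod X N) (basis X N l) := by
  rw [pullFreeIso_inv_eq, secHom_basis_apply]

/-- A scheme classifying tuples of generating sections is the Grassmannian of the free module. -/
theorem exists_q_isGrass {S G : Scheme.{u}} (p : G ⟶ S) {N r : ℕ} {Q : G.Modules}
    (σ : Fin N → Γ(Q, (⊤ : G.Opens))) (hQ : FlatMod.IsFinLocFreeOfRank r Q) (hσ : Epi (secHom σ))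
    (huniv : ∀ (T : Scheme.{u}) (s : T ⟶ S) (L : T.Modules), FlatMod.IsFinLocFreeOfRank r L →
      ∀ v : Fin N → Γ(L, (⊤ : T.Opens)), Epi (secHom v) → ∃! h : T ⟶ G, h ≫ p = s ∧
        ∃ φ : (Scheme.Modules.pullback h).obj Q ⟶ L, ∀ l, φ.app ⊤ (pullTop h Q (σ l)) = v l) :
    ∃ q : (Scheme.Modules.pullback p).obj (FlatMod.freeMod S N) ⟶ Q, Grass.IsGrass p (FlatMod.freeMod S N) r Q q := by
  haveI := hσ
  let q := (KFlatLib.pullFreeIso p N).hom ≫ secHom σ
  have hq : ∀ l, q.app ⊤ (pullTop p (FlatMod.freeMod S N) (basis S N l)) = σ l := fun l => by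
    rw [← pullFreeIso_inv_basis, ← secHom_basis_apply σ l]
    exact congr(($(Iso.inv_hom_id_assoc (KFlatLib.pullFreeIso p N) (secHom σ))).app ⊤ (basis G N l))
  haveI : Epi q := epi_comp _ _
  refine ⟨q, isGrass_mk hQ inferInstance fun T g L hL s hs => ?_⟩
  haveI := hs
  let v : Fin N → Γ(L, (⊤ : T.Opens)) := fun l => s.app ⊤ (pullTop g _ (basis S N l))
  haveI hv : Epi (secHom v) := by
    rw [← secHom_comp, ← pullFreeIso_inv_eq]
    infer_instance
  have hkey : ∀ (h : T ⟶ G) (hg : h ≫ p = g) (l : Fin N),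
      (pullQ h p g hg q).app ⊤ (pullTop g _ (basis S N l)) = pullTop h Q (σ l) := fun h hg l => by
    rw [pullQ_pullTop, hq]
  obtain ⟨h, ⟨hg, φ, hφ⟩, huniq⟩ := huniv T g L hL v hv
  haveI : Epi φ := by
    haveI : Epi ((secHom fun l => pullTop h Q (σ l)) ≫ φ) := by
      rw [secHom_comp, show (fun l => φ.app ⊤ (pullTop h Q (σ l))) = v from funext hφ]
      infer_instance
    exact epi_of_epi (secHom fun l => pullTop h Q (σ l)) φ
  haveI := isIso_of_epi_rank (KRRReg.isFinLocFreeOfRank_pullback h hQ) hL φ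
  refine ⟨h, ⟨hg, asIso φ, ?_⟩, ?_⟩
  · rw [← cancel_epi (KFlatLib.pullFreeIso g N).inv, pullFreeIso_inv_eq, secHom_comp, secHom_comp]
    refine congrArg secHom (funext fun l => ?_)
    show φ.app ⊤ ((pullQ h p g hg q).app ⊤ _) = v l
    rw [hkey]
    exact hφ l
  · rintro h' ⟨hg', e, he⟩
    refine huniq h' ⟨hg', e.hom, fun l => ?_⟩
    rw [← hkey h' hg' l]
    exact congr(($he).app ⊤ (pullTop g _ (basis S N l)))

/-- The Grassmannian of a free module over an affine scheme. -/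
theorem exists_isGrass_free (B : CommRingCat.{u}) (N r : ℕ) (hr : r ≤ N) :
    ∃ (G : Scheme.{u}) (p : G ⟶ Spec B) (Q : G.Modules)
      (q : (Scheme.Modules.pullback p).obj (FlatMod.freeMod (Spec B) N) ⟶ Q),
      Grass.IsGrass p (FlatMod.freeMod (Spec B) N) r Q q := by
  obtain ⟨G, p, Q, σ, hQ, hσ, huniv, -⟩ := exists_grassmannian B N r hr
  obtain ⟨q, hq⟩ := exists_q_isGrass p σ hQ hσ huniv
  exact ⟨G, p, Q, q, hq⟩

/-- A quasi-coherent module of finite type on an affine scheme is a quotient of a free module. -/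
theorem exists_epi_free_spec {B : CommRingCat.{u}} {M : (Spec B).Modules} (hM : Coh.IsQCoh M) (hft : CohB1.IsFT M)
    (r : ℕ) : ∃ (N : ℕ) (v : Fin N → Γ(M, (⊤ : (Spec B).Opens))), r ≤ N ∧ Epi (secHom v) := by
  haveI := QCoh.finite_of_isFT hM hft (isAffineOpen_top _)
  obtain ⟨l, p, hp⟩ := Module.Finite.exists_fin' Γ(Spec B, ⊤) Γ(M, (⊤ : (Spec B).Opens))
  refine ⟨l + r, Fin.append (fun j => p (Pi.single j 1)) (fun _ => 0), Nat.le_add_left r l, ⟨fun {P} a b hab => ?_⟩⟩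
  refine (QCoh.bijective_ΓMap hM P).1 (ModuleCat.hom_ext (LinearMap.ext fun z => ?_))
  show a.app ⊤ z = b.app ⊤ z
  obtain ⟨c, rfl⟩ := hp z
  rw [pi_eq_sum_univ' c, map_sum, map_sum, map_sum]
  refine Finset.sum_congr rfl fun j _ => ?_
  rw [map_smul, Scheme.Modules.Hom.app_smul, Scheme.Modules.Hom.app_smul]
  refine congrArg (c j • ·) ?_
  have := congr(($hab).app ⊤ (basis (Spec B) (l + r) (Fin.castAdd r j)))
  rw [secHom_comp, secHom_comp, secHom_basis_apply, secHom_basis_apply, Fin.append_left] at this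
  convert this using 3

theorem pullQ_tr_inv {X V Z T : Scheme.{u}} {E : X.Modules} (a : T ⟶ Z) (π₀ : Z ⟶ V) (g : T ⟶ V)
    (ha : a ≫ π₀ = g) (j : V ⟶ X) (c : T ⟶ X) (hg : g ≫ j = c) (ha' : a ≫ π₀ ≫ j = c) {Q : Z.Modules}
    (q₀ : (Scheme.Modules.pullback π₀).obj ((Scheme.Modules.pullback j).obj E) ⟶ Q) :
    pullQ a π₀ g ha q₀ = (LimMod.trIso g j c hg).hom.app E ≫
      pullQ a (π₀ ≫ j) c ha' ((LimMod.trIso π₀ j (π₀ ≫ j) rfl).inv.app E ≫ q₀) := by
  rw [← pullQ_tr a π₀ g ha j (π₀ ≫ j) rfl c hg, Iso.hom_inv_id_app_assoc]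

theorem res_mkQ_eq_iff {X : Scheme.{u}} {E : X.Modules} {r : ℕ} {T T' : Over X} (g : T' ⟶ T) {L : T.left.Modules}
    (hL : FlatMod.IsFinLocFreeOfRank r L) (s : (Scheme.Modules.pullback T.hom).obj E ⟶ L) [Epi s]
    (ψ : (GFun E r).obj (op T')) :
    RepLocal.res (GFun E r) g (mkQ T hL s) = ψ ↔ SameQ (pullQ g.left T.hom T'.hom (Over.w g) s) (quot ψ) := by
  rw [res_eq_iff]
  exact ⟨fun h => (SameQ.pullQ _ _ _ (quot_mkQ T hL s)).trans h, fun h => (SameQ.pullQ _ _ _ (quot_mkQ T hL s).symm).trans h⟩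

/-- Universality of a section given by a quotient, in terms of morphisms of schemes. -/
theorem isUniv_of_class {X : Scheme.{u}} {E : X.Modules} {r : ℕ} {U : X.Opens} {M : Over X} {L : M.left.Modules}
    (hL : FlatMod.IsFinLocFreeOfRank r L) (s : (Scheme.Modules.pullback M.hom).obj E ⟶ L) [Epi s]
    (hU : RepLocal.InU U M)
    (H : ∀ T : Over X, RepLocal.InU U T → ∀ φ : (GFun E r).obj (op T),
      ∃! h : T.left ⟶ M.left, IsClass M.hom s (quot φ) h) :
    RepLocal.IsUniv (GFun E r) U M (mkQ M hL s) := by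
  refine ⟨hU, fun T hT φ => ?_⟩
  obtain ⟨h, ⟨hh, hs⟩, huniq⟩ := H T hT φ
  refine ⟨Over.homMk h hh, (res_mkQ_eq_iff (Over.homMk h hh) hL s φ).2 hs, fun w hw => ?_⟩
  exact Over.OverMorphism.ext (huniq w.left ⟨Over.w w, (res_mkQ_eq_iff w hL s φ).1 hw⟩)

/-- The section of a quotient over an open chart is universal there. -/
theorem isUniv_chart {X : Scheme.{u}} {E : X.Modules} {r : ℕ} (U : X.Opens) {V : Scheme.{u}} (j : V ⟶ X)
    [IsOpenImmersion j] (hj : Set.range j = U) {Z : Scheme.{u}} {π₀ : Z ⟶ V} {Q₀ : Z.Modules}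
    {q₀ : (Scheme.Modules.pullback π₀).obj ((Scheme.Modules.pullback j).obj E) ⟶ Q₀}
    (hG₀ : Grass.IsGrass π₀ ((Scheme.Modules.pullback j).obj E) r Q₀ q₀) :
    ∃ (M : Over X) (ξ : (GFun E r).obj (op M)), RepLocal.IsUniv (GFun E r) U M ξ := by
  haveI := hG₀.epi
  let M₀ : Over X := Over.mk (π₀ ≫ j)
  let q₀' : (Scheme.Modules.pullback M₀.hom).obj E ⟶ Q₀ := (LimMod.trIso π₀ j (π₀ ≫ j) rfl).inv.app E ≫ q₀
  haveI : Epi q₀' := epi_comp _ _
  refine ⟨M₀, mkQ M₀ hG₀.rank q₀', isUniv_of_class hG₀.rank q₀' (fun x => hj.le ⟨π₀ x, rfl⟩) fun T hT φ => ?_⟩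
  let g := IsOpenImmersion.lift j T.hom (by
    rintro _ ⟨x, rfl⟩
    exact hj.ge (hT x))
  have hg : g ≫ j = T.hom := IsOpenImmersion.lift_fac _ _ _
  let τ := (LimMod.trIso g j T.hom hg).app E
  haveI : Epi (τ.hom ≫ quot φ) := epi_comp _ _
  obtain ⟨h, ⟨hh, hs⟩, huniq⟩ := existsUnique_class hG₀ φ.2 (τ.hom ≫ quot φ)
  have conv : ∀ (a : T.left ⟶ Z) (ha : a ≫ π₀ = g) (ha' : a ≫ M₀.hom = T.hom),
      pullQ a π₀ g ha q₀ = τ.hom ≫ pullQ a M₀.hom T.hom ha' q₀' := fun a ha ha' =>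
    pullQ_tr_inv a π₀ g ha j T.hom hg ha' q₀
  have hh' : h ≫ M₀.hom = T.hom := by
    show h ≫ π₀ ≫ j = _
    rw [← Category.assoc, hh, hg]
  refine ⟨h, ⟨hh', sameQ_of_comp τ.hom (by rw [← conv h hh hh']; exact hs)⟩, ?_⟩
  rintro w ⟨hw', hws⟩
  have hwg : w ≫ π₀ = g := by rw [← cancel_mono j, hg, Category.assoc]; exact hw'
  refine huniq w ⟨hwg, ?_⟩
  rw [conv w hwg hw']
  exact SameQ.comp _ hws

/-- Grassmannians of quasi-coherent modules of finite type exist. -/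
theorem exists_isGrass {X : Scheme.{u}} {E : X.Modules} (hqc : Coh.IsQCoh E) (hft : CohB1.IsFT E) (r : ℕ) :
    ∃ (G : Scheme.{u}) (π : G ⟶ X) (Q : G.Modules) (q : (Scheme.Modules.pullback π).obj E ⟶ Q),
      Grass.IsGrass π E r Q q := by
  have chart : ∀ U : X.affineOpens, ∃ (M : Over X) (ξ : (GFun E r).obj (op M)),
      RepLocal.IsUniv (GFun E r) U.1 M ξ := by
    intro U
    let j : Spec Γ(X, U.1) ⟶ X := U.2.fromSpec
    let E' := (Scheme.Modules.pullback j).obj E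
    have hqc' : Coh.IsQCoh E' := QCoh.isQCoh_pullback j hqc
    have hft' : CohB1.IsFT E' := KFlatLib.isFT_of_iso' ((Scheme.Modules.restrictFunctorIsoPullback j).app E)
      (AmpleX.isFT_restrict' j hqc hft)
    obtain ⟨N, v, hN, hv⟩ := exists_epi_free_spec hqc' hft' r
    obtain ⟨G₁, p, Q₁, q₁, hG₁⟩ := exists_isGrass_free Γ(X, U.1) N r hN
    haveI := hv
    obtain ⟨Z, ι, Q₀, q₀, -, hG₀, -⟩ := exists_isGrass_of_epi hG₁ (QCoh.isQCoh_freeMod_spec N) hqc' (secHom v)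
    exact isUniv_chart U.1 j U.2.range_fromSpec hG₀
  obtain ⟨M, ξ, h⟩ := RepLocal.exists_univ isLocal_GFun chart
  exact ⟨M.left, M.hom, _, quot ξ, isGrass_of_univ h⟩

end Groth.Agent.H6KS.Grass

end
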