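import Groth.Agent.Lambda.Theta
import Groth.Agent.Lambda.LineRing

/-!
# Special λ-rings from line elements

A pre-λ-ring in which any two elements become, after an injective λ-homomorphism, differences of
sums of elements of a submonoid of lines is special.  No augmentation is needed.
-/

universe v w

open MvPolynomial LambdaRing

namespace Groth.Agent.H6KS

open Groth.Agent.Lambda

variable {L : Type w} [CommRing L] [LambdaOps L] (S : Submonoid L)

/-- `w_v ↦ v - 1`. -/
noncomputable def linesHom : MvPolynomial S ℤ →ₐ[ℤ] L :=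
  aeval fun v : S => (v : L) - 1

theorem linesHom_lineMon (c : S →₀ ℕ) : linesHom S (lineMon c) ∈ S := by
  rw [lineMon_eq, linesHom, map_finsuppProd]
  exact S.prod_mem fun a _ => by
    simp only [map_pow, map_add, map_one, aeval_X, add_sub_cancel]
    exact S.pow_mem a.2 _

theorem linesHom_lam (hS : ∀ u ∈ S, ∀ i, 2 ≤ i → LambdaOps.lam i u = 0) (i : ℕ) (p : MvPolynomial S ℤ) :
    linesHom S (LambdaOps.lam i p) = LambdaOps.lam i (linesHom S p) := by
  suffices h : ∀ p, PowerSeries.map (linesHom S).toRingHom (lamSeries p) = lamSeries (linesHom S p) by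
    have := congrArg (PowerSeries.coeff i) (h p)
    simpa [coeff_lamSeries] using this
  let G : AddSubgroup (MvPolynomial S ℤ) :=
    { carrier := {p | PowerSeries.map (linesHom S).toRingHom (lamSeries p) = lamSeries (linesHom S p)}
      zero_mem' := by simp
      add_mem' := fun {a b} ha hb => by
        simp only [Set.mem_ofPred_eq] at ha hb ⊢
        rw [lamSeries_add, map_mul, map_add, lamSeries_add, ha, hb]
      neg_mem' := fun {a} ha => by
        simp only [Set.mem_ofPred_eq] at ha ⊢
        have h := congrArg (PowerSeries.map (linesHom S).toRingHom) (lamSeries_neg_mul_self a)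
        rw [map_mul, map_one, ha] at h
        rw [map_neg]
        exact left_inv_eq_right_inv h ((mul_comm _ _).trans (lamSeries_neg_mul_self _)) }
  refine fun p => line_induction (S := G) (fun c => ?_) p
  show PowerSeries.map (linesHom S).toRingHom (lamSeries (lineMon c)) = lamSeries (linesHom S (lineMon c))
  rw [lamSeries_eq_lineSeries, lineSeries_lineMon, lamSeries_of_lam_eq_zero (hS _ (linesHom_lineMon S c))]
  simp

theorem closure_le_range : AddSubgroup.closure (S : Set L) ≤ (linesHom S).toRingHom.toAddMonoidHom.range :=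
  (AddSubgroup.closure_le _).2 fun u hu => ⟨1 + X ⟨u, hu⟩, by simp [linesHom]⟩

/-- Lines after injective extension imply special. -/
theorem isSpecial_of_lines {K : Type v} [CommRing K] [LambdaOps K]
    (h1 : ∀ i, 2 ≤ i → LambdaOps.lam i (1 : K) = 0)
    (h : ∀ x y : K, ∃ (L : Type w) (_ : CommRing L) (_ : LambdaOps L) (S : Submonoid L) (f : K →+* L),
      (∀ u ∈ S, ∀ i, 2 ≤ i → LambdaOps.lam i u = 0) ∧ Function.Injective f ∧
      (∀ i z, f (LambdaOps.lam i z) = LambdaOps.lam i (f z)) ∧
      f x ∈ AddSubgroup.closure (S : Set L) ∧ f y ∈ AddSubgroup.closure (S : Set L)) :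
    IsSpecial K := by
  refine ⟨h1, fun n Q hQ x y => ?_, fun i j Q hQ x => ?_⟩
  · obtain ⟨L, _, _, S, f, hS, hinj, hlam, hx, hy⟩ := h x y
    obtain ⟨p, hp⟩ := closure_le_range S hx
    obtain ⟨q, hq⟩ := closure_le_range S hy
    change linesHom S p = f x at hp
    change linesHom S q = f y at hq
    apply hinj
    rw [hlam, map_mul, ← hp, ← hq, ← map_mul, ← linesHom_lam S hS, (isSpecial_line (σ := S)).lam_mul n Q hQ p q,
      show ∀ z, linesHom S z = (linesHom S).toRingHom z from fun _ => rfl, ringHom_aeval_int, ringHom_aeval_int]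
    congr 2
    funext k
    rcases k with k | k
    · simp only [Sum.elim_inl, AlgHom.toRingHom_eq_coe, RingHom.coe_coe, linesHom_lam S hS, hp]
      exact (hlam _ _).symm
    · simp only [Sum.elim_inr, AlgHom.toRingHom_eq_coe, RingHom.coe_coe, linesHom_lam S hS, hq]
      exact (hlam _ _).symm
  · obtain ⟨L, _, _, S, f, hS, hinj, hlam, hx, -⟩ := h x x
    obtain ⟨p, hp⟩ := closure_le_range S hx
    change linesHom S p = f x at hp
    apply hinj
    rw [hlam, hlam, ← hp, ← linesHom_lam S hS, ← linesHom_lam S hS, (isSpecial_line (σ := S)).lam_lam i j Q hQ p,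
      show ∀ z, linesHom S z = (linesHom S).toRingHom z from fun _ => rfl, ringHom_aeval_int, ringHom_aeval_int]
    congr 2
    funext k
    simp only [AlgHom.toRingHom_eq_coe, RingHom.coe_coe, linesHom_lam S hS, hp]
    exact (hlam _ _).symm

end Groth.Agent.H6KS
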