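import Groth.Agent.H6KB.Main
import Groth.Agent.ExtPowSh.Iso

/-!
# Bundles of rank at most one at every point
-/

set_option autoImplicit false
set_option linter.style.haveILetI false
set_option linter.unusedSectionVars false
set_option backward.isDefEq.respectTransparency false
set_option backward.isDefEq.respectTransparency.types false
set_option maxHeartbeats 1000000

universe v u

open CategoryTheory CategoryTheory.Limits AlgebraicGeometry TopologicalSpace Opposite

attribute [-instance] CategoryTheory.catToReflQuiver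

noncomputable section

namespace Groth.Agent.H6KS

open Groth.Agent Groth.Agent.ExtPowSh

variable {X Y : Scheme.{u}}

theorem rk_of_free {M : X.Modules} (hM : FlatMod.IsFinLocFree M) {U : X.Opens} {n : ℕ}
    (e : M.restrict U.ι ≅ FlatMod.freeMod U.toScheme n) {x : X} (hx : x ∈ U) : rk M x = n := by
  obtain ⟨V, hV, hxV, hle⟩ := exists_isAffineOpen_mem_and_subset (U := U) (x := x) hx
  obtain ⟨l⟩ := QCoh.free_sections hV hle e
  exact QCoh.finrank_stalk_of_freeChart hV (QCoh.isQCoh_of_isFinLocFree hM) l hxV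

theorem rk_pullback (f : Y ⟶ X) {M : X.Modules} (hM : FlatMod.IsFinLocFree M) (y : Y) :
    rk ((Scheme.Modules.pullback f).obj M) y = rk M (f y) := by
  obtain ⟨U, n, hx, ⟨e⟩⟩ := hM (f y)
  rw [rk_of_free hM e hx]
  exact rk_of_free (KFlatLib.isFinLocFree_pullback f hM) (U := f ⁻¹ᵁ U)
    (((H23.PullPush.pullRestrictIso f U).app M).symm ≪≫
      (Scheme.Modules.pullback (f ∣_ U)).mapIso e ≪≫ KFlatLib.pullFreeIso _ n) hx

theorem rk_structure (x : X) : rk (Coh.structureModule X) x = 1 :=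
  rk_eq (InvEnd.isFinLocFreeOfRank_one InvX.isInvertible_structureModule) x

/-- A bundle of rank at most one at every point. -/
structure Small (M : X.Modules) : Prop where
  vb : FlatMod.IsFinLocFree M
  rk_le : ∀ x, rk M x ≤ 1

theorem Small.pullback (f : Y ⟶ X) {M : X.Modules} (h : Small M) : Small ((Scheme.Modules.pullback f).obj M) :=
  ⟨KFlatLib.isFinLocFree_pullback f h.vb, fun y => (rk_pullback f h.vb y).trans_le (h.rk_le _)⟩

theorem small_structure : Small (Coh.structureModule X) :=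
  ⟨KRRReg.isFinLocFree_structure X, fun x => (rk_structure x).le⟩

theorem Small.tensor {M N : X.Modules} (hM : Small M) (hN : Small N) : Small ((DCoh.tensorBi.obj M).obj N) :=
  ⟨KFlatLib.isFinLocFree_tensor hM.vb hN.vb, fun x => by
    rw [rk_tensor hM.vb hN.vb]
    exact (Nat.mul_le_mul (hM.rk_le x) (hN.rk_le x)).trans_eq (one_mul 1)⟩

/-- Exterior powers of degree at least two of small bundles vanish. -/
theorem Small.isZero_L {M : X.Modules} (h : Small M) {i : ℕ} (hi : 2 ≤ i) : IsZero (L M i) := by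
  choose U m hx he using h.vb
  refine H6KB.isZero_of_pullback (fun x => (U x).ι) (fun x => ⟨x, ⟨x, hx x⟩, rfl⟩) fun x => ?_
  obtain ⟨e⟩ := he x
  have hm : m x ≤ 1 := (rk_of_free h.vb e (hx x)).symm.trans_le (h.rk_le x)
  obtain ⟨c⟩ := nonempty_pullback_iso (U x).ι M i (QCoh.isQCoh_of_isFinLocFree h.vb)
  have hr : FlatMod.IsFinLocFreeOfRank (m x) ((Scheme.Modules.pullback (U x).ι).obj M) :=
    (ConsPropLib.isFinLocFreeOfRank_iso (((Scheme.Modules.restrictFunctorIsoPullback (U x).ι).app M).symm ≪≫ e)).2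
      (GGTriv.isFinLocFreeOfRank_freeMod _)
  have h0 := isFinLocFreeOfRank (i := i) hr
  rw [Nat.choose_eq_zero_of_lt (by omega)] at h0
  refine isZero_of_rank_zero ?_
  exact (ConsPropLib.isFinLocFreeOfRank_iso c).2 h0

/-- The structure sheaf of a clopen subset, extended by zero. -/
theorem exists_indicator (U V : X.Opens) (hcov : ∀ x, x ∈ U ∨ x ∈ V) (hdis : Disjoint (U : Set X) (V : Set X)) :
    ∃ M : X.Modules, Small M ∧ (∀ x ∈ U, rk M x = 1) ∧ ∀ x ∈ V, rk M x = 0 := by
  let M := (Scheme.Modules.pushforward U.ι).obj (Coh.structureModule U.toScheme)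
  let eU : M.restrict U.ι ≅ FlatMod.freeMod U.toScheme 1 :=
    (asIso (Scheme.Modules.restrictAdjunction U.ι).counit).app _ ≪≫
      (show FlatMod.freeMod U.toScheme 1 ≅ Coh.structureModule U.toScheme from coproductUniqueIso _).symm
  have hV : IsZero (M.restrict V.ι) := by
    refine (IsZero.iff_id_eq_zero _).2 (Scheme.Modules.hom_ext _ _ fun W => ?_)
    ext s
    haveI : Subsingleton Γ(Coh.structureModule U.toScheme, U.ι ⁻¹ᵁ (V.ι ''ᵁ W)) := by
      refine ⟨fun a b => TopCat.Presheaf.section_ext (⟨(Coh.structureModule U.toScheme).presheaf,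
        (Coh.structureModule U.toScheme).isSheaf⟩ : TopCat.Sheaf Ab U.toScheme.toTopCat) _ a b fun z hz => ?_⟩
      obtain ⟨w, -, hw⟩ := hz
      exact (Set.disjoint_left.1 hdis z.2 (show z.1 ∈ (V : Set X) from (congrArg (· ∈ (V : Set X)) (show (w.1 : X) = z.1 from hw)).mp w.2)).elim
    exact Subsingleton.elim (α := Γ(Coh.structureModule U.toScheme, U.ι ⁻¹ᵁ (V.ι ''ᵁ W))) _ _
  have e0 : M.restrict V.ι ≅ FlatMod.freeMod V.toScheme 0 :=
    hV.iso (isZero_of_rank_zero (GGTriv.isFinLocFreeOfRank_freeMod 0))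
  have hvb : FlatMod.IsFinLocFree M := fun x => (hcov x).elim (fun h => ⟨U, 1, h, ⟨eU⟩⟩) (fun h => ⟨V, 0, h, ⟨e0⟩⟩)
  have h1 : ∀ x ∈ U, rk M x = 1 := fun x hx => rk_of_free hvb eU hx
  have h2 : ∀ x ∈ V, rk M x = 0 := fun x hx => rk_of_free hvb e0 hx
  exact ⟨M, ⟨hvb, fun x => (hcov x).elim (fun h => (h1 x h).le) (fun h => (h2 x h).trans_le zero_le_one)⟩, h1, h2⟩

/-- The span of the classes of small bundles. -/
def smallSpan (X : Scheme.{u}) : AddSubgroup (SGA6.Kvb X) :=
  AddSubgroup.closure {z | ∃ M : X.Modules, Small M ∧ KRR.cl X M = z}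

theorem mem_smallSpan {M : X.Modules} (h : Small M) : KRR.cl X M ∈ smallSpan X :=
  AddSubgroup.subset_closure ⟨M, h, rfl⟩

/-- A locally constant rank is attained by sums of small bundles. -/
theorem exists_sum_small : ∀ (N : ℕ) (c : X → ℕ), IsLocallyConstant c → (∀ x, c x ≤ N) →
    ∃ G : X.Modules, FlatMod.IsFinLocFree G ∧ (∀ x, rk G x = c x) ∧ KRR.cl X G ∈ smallSpan X := by
  intro N
  induction N with
  | zero =>
    intro c _ hc
    obtain ⟨M, hM, -, h0⟩ := exists_indicator (X := X) ⊥ ⊤ (fun x => Or.inr trivial) (Set.disjoint_left.2 fun _ h => h.elim)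
    exact ⟨M, hM.vb, fun x => (h0 x trivial).trans (Nat.le_zero.1 (hc x)).symm, mem_smallSpan hM⟩
  | succ N ih =>
    intro c hloc hc
    obtain ⟨M, hM, h1, h0⟩ := exists_indicator (X := X) ⟨{x | 1 ≤ c x}, hloc {k | 1 ≤ k}⟩ ⟨{x | c x = 0}, hloc {0}⟩
      (fun x => (Nat.eq_zero_or_pos (c x)).elim Or.inr Or.inl)
      (Set.disjoint_left.2 fun x (h : 1 ≤ c x) (h' : c x = 0) => by omega)
    obtain ⟨G, hG, hr, hs⟩ := ih (fun x => c x - 1) (hloc.comp fun k => k - 1) fun x => by have := hc x; omega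
    refine ⟨M ⊞ G, isFinLocFree_biprod hM.vb hG, fun x => ?_, by rw [cl_biprod hM.vb hG]; exact add_mem (mem_smallSpan hM) hs⟩
    refine (rk_add (ShortComplex.Splitting.ofHasBinaryBiproduct M G).shortExact hM.vb hG x).trans ?_
    show rk M x + rk G x = c x
    rw [hr x]
    rcases Nat.eq_zero_or_pos (c x) with h | h
    · rw [h0 x h, h]
    · rw [h1 x h]; omega

end Groth.Agent.H6KS
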