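import Groth.Agent.H6KS.Small
import Groth.Agent.H6KS.GrassExists

/-!
# The splitting principle for `K₀` of a quasi-compact scheme
-/

set_option autoImplicit false
set_option linter.style.haveILetI false
set_option linter.unusedSectionVars false
set_option backward.isDefEq.respectTransparency false
set_option backward.isDefEq.respectTransparency.types false
set_option maxHeartbeats 1000000

universe v u

open CategoryTheory CategoryTheory.Limits AlgebraicGeometry TopologicalSpace Opposite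

attribute [-instance] CategoryTheory.catToReflQuiver

noncomputable section

namespace Groth.Agent.H6KS

open Groth.Agent Groth.Agent.ExtPowSh Groth.Agent.H23.PicMul

variable {X Y Z : Scheme.{u}}

theorem exists_pullK (f : Y ⟶ X) : ∃ χ : SGA6.Kvb X →+ SGA6.Kvb Y, ∀ E, FlatMod.IsFinLocFree E →
    χ (KRR.cl X E) = KRR.cl Y ((Scheme.Modules.pullback f).obj E) :=
  KZ.exists_liftSub (KRR.vbP X) (fun E => KRR.cl Y ((Scheme.Modules.pullback f).obj E))
    fun S hS h₁ h₂ h₃ => KZ.clSub_ses (KRR.vbP Y) (KRRReg.shortExact_pullback_vb f hS h₃)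
      (KFlatLib.isFinLocFree_pullback f h₁) (KFlatLib.isFinLocFree_pullback f h₂)
      (KFlatLib.isFinLocFree_pullback f h₃)

/-- Pullback on `K₀` of bundles. -/
def pullK (f : Y ⟶ X) : SGA6.Kvb X →+ SGA6.Kvb Y := (exists_pullK f).choose

theorem pullK_cl (f : Y ⟶ X) {E : X.Modules} (hE : FlatMod.IsFinLocFree E) :
    pullK f (KRR.cl X E) = KRR.cl Y ((Scheme.Modules.pullback f).obj E) := (exists_pullK f).choose_spec E hE

theorem pullK_id : pullK (𝟙 X) = AddMonoidHom.id _ :=
  KZ.K0sub_hom_ext (KRR.vbP X) fun E hE => by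
    show pullK (𝟙 X) (KRR.cl X E) = KRR.cl X E
    rw [pullK_cl _ hE]
    exact KRRReg.cl_iso ((Scheme.Modules.pullbackId X).app E) (KFlatLib.isFinLocFree_pullback _ hE)

theorem pullK_comp (g : Z ⟶ Y) (f : Y ⟶ X) : pullK (g ≫ f) = (pullK g).comp (pullK f) :=
  KZ.K0sub_hom_ext (KRR.vbP X) fun E hE => by
    show pullK (g ≫ f) (KRR.cl X E) = pullK g (pullK f (KRR.cl X E))
    rw [pullK_cl _ hE, pullK_cl _ hE, pullK_cl _ (KFlatLib.isFinLocFree_pullback _ hE)]
    exact (KRRReg.cl_iso ((Scheme.Modules.pullbackComp g f).app E)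
      (KFlatLib.isFinLocFree_pullback _ (KFlatLib.isFinLocFree_pullback _ hE))).symm

theorem pullK_mem_smallSpan (f : Y ⟶ X) {z : SGA6.Kvb X} (hz : z ∈ smallSpan X) : pullK f z ∈ smallSpan Y := by
  refine (AddSubgroup.closure_le ((smallSpan Y).comap (pullK f))).2 ?_ hz
  rintro _ ⟨M, hM, rfl⟩
  show pullK f (KRR.cl X M) ∈ smallSpan Y
  rw [pullK_cl _ hM.vb]
  exact mem_smallSpan (hM.pullback f)

theorem quasiCompact_of_isProjBundle {P : Scheme.{u}} [CompactSpace X] {π : P ⟶ X} {O1 : P.Modules} {r : ℕ}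
    {E : X.Modules} {q : (Scheme.Modules.pullback π).obj E ⟶ O1} (hP : KRR.IsProjBundle π E O1 q)
    (hE : FlatMod.IsFinLocFreeOfRank (r + 1) E) : CompactSpace P := by
  obtain ⟨ι, _, A, hA⟩ := H6KB.exists_atlas hP hE
  haveI : ∀ i, CompactSpace (KRR.PY r (A i).V.toScheme) := fun i => by
    haveI := (A i).compactSpace
    haveI : IsProper (KRR.pr r (A i).V.toScheme) := KRRReg.isProper_pr
    exact QuasiCompact.compactSpace_of_compactSpace (KRR.pr r (A i).V.toScheme)
  refine ⟨?_⟩
  have hu : (Set.univ : Set P) = ⋃ i, Set.range (A i).f :=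
    Set.eq_univ_of_forall (fun y => Set.mem_iUnion.2 (H6KB.cover_top hA y)) |>.symm
  rw [hu]
  exact isCompact_iUnion fun i => isCompact_range (A i).f.continuous

theorem injective_pullK_bundle {P : Scheme.{u}} [CompactSpace X] {π : P ⟶ X} {O1 : P.Modules} {r : ℕ}
    {E : X.Modules} {q : (Scheme.Modules.pullback π).obj E ⟶ O1} (hP : KRR.IsProjBundle π E O1 q)
    (hE : FlatMod.IsFinLocFreeOfRank (r + 1) E) : Function.Injective (pullK π) := by
  obtain ⟨KX, _, φX, hX⟩ := KRRReg.exists_ringModel X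
  obtain ⟨KP, _, φP, hφP⟩ := KRRReg.exists_ringModel P
  obtain ⟨g, hg⟩ := H6KB.exists_pullRingHom π hX hφP
  have hL : PicF.IsInvertible O1 := BertiniSec.isInvertible_of_rank_one hP.invertible
  obtain ⟨w, hw⟩ := (H6KB.isUnit_cl_invertible hφP hL).exists_left_inv
  have hbij := H6KB.bijective_invPowers hE hP hX hφP g hg hw
  have key : ∀ z, φP (pullK π z) = g (φX z) := fun z =>
    DFunLike.congr_fun (KZ.K0sub_hom_ext (KRR.vbP X) (f := φP.comp (pullK π)) (g := g.toAddMonoidHom.comp φX)
      fun N hN => by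
        show φP (pullK π (KRR.cl X N)) = g.toAddMonoidHom (φX (KRR.cl X N))
        rw [pullK_cl _ hN, hg N hN]) z
  intro a b hab
  refine hX.bijective.1 ?_
  have h := congrArg φP hab
  rw [key, key] at h
  have h' := hbij.1 (a₁ := fun i => if i = 0 then φX a else 0) (a₂ := fun i => if i = 0 then φX b else 0) (by
    show ∑ i : Fin (r + 1), g (if i = 0 then φX a else 0) * _ = ∑ i : Fin (r + 1), g (if i = 0 then φX b else 0) * _
    rw [Finset.sum_eq_single 0 (fun i _ hi => by rw [if_neg hi, map_zero, zero_mul]) (by simp),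
      Finset.sum_eq_single 0 (fun i _ hi => by rw [if_neg hi, map_zero, zero_mul]) (by simp)]
    simp [h])
  simpa using congrFun h' 0

/-- A quasi-compact scheme over `X` with injective pullback on `K₀` on which a class splits. -/
def Splits (X : Scheme.{u}) (z : SGA6.Kvb X) : Prop :=
  ∃ (X' : Scheme.{u}) (_ : CompactSpace X') (f : X' ⟶ X), Function.Injective (pullK f) ∧ pullK f z ∈ smallSpan X'

theorem splits_rank : ∀ (n : ℕ) (X : Scheme.{u}) [CompactSpace X] (E : X.Modules),
    FlatMod.IsFinLocFreeOfRank n E → Splits X (KRR.cl X E) := by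
  intro n
  induction n with
  | zero =>
    intro X _ E hE
    refine ⟨X, inferInstance, 𝟙 X, by rw [pullK_id]; exact Function.injective_id, ?_⟩
    rw [show KRR.cl X E = 0 from KZ.clSub_isZero (KRR.vbP X) (isZero_of_rank_zero hE), map_zero]
    exact zero_mem _
  | succ n ih =>
    intro X _ E hE
    have hvE := flf_of_rank hE
    obtain ⟨P, π, O1, q, hG⟩ := Grass.exists_isGrass (QCoh.isQCoh_of_isFinLocFree hvE)
      (QCoh.isFT_of_isFP (QCoh.isFP_of_isFinLocFree hvE)) 1
    have hP : KRR.IsProjBundle π E O1 q := hG.isProjBundle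
    haveI := quasiCompact_of_isProjBundle hP hE
    haveI := hP.epi
    let S := ShortComplex.mk (kernel.ι q) q (kernel.condition q)
    have hS : S.ShortExact :=
      { exact := ShortComplex.exact_kernel q, mono_f := inferInstance, epi_g := inferInstance }
    have hpE := KFlatLib.isFinLocFree_pullback π hvE
    have hO := flf_of_rank hP.invertible
    have hF : FlatMod.IsFinLocFree S.X₁ := H6KP.vb_X₁ hS hpE hO
    have hFr : FlatMod.IsFinLocFreeOfRank n S.X₁ := H6KB.isFinLocFreeOfRank_of_rk hF fun x => by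
      have h := rk_add hS hF hO x
      rw [rk_eq (KRRReg.isFinLocFreeOfRank_pullback π hE) x, rk_eq hP.invertible x] at h
      omega
    obtain ⟨X', hc, f, hinj, hmem⟩ := ih P S.X₁ hFr
    refine ⟨X', hc, f ≫ π, by rw [pullK_comp]; exact hinj.comp (injective_pullK_bundle hP hE), ?_⟩
    have h1 : pullK π (KRR.cl X E) = KRR.cl P S.X₁ + KRR.cl P O1 :=
      (pullK_cl π hvE).trans (KZ.clSub_ses (KRR.vbP P) hS hF hpE hO)
    rw [pullK_comp, AddMonoidHom.comp_apply, h1, map_add]
    refine add_mem hmem (pullK_mem_smallSpan f (mem_smallSpan ⟨hO, fun x => ?_⟩))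
    exact (rk_eq hP.invertible x).le

theorem Splits.add {z₁ : SGA6.Kvb X} (h₁ : Splits X z₁)
    {z₂ : SGA6.Kvb X} (h₂ : ∀ (X' : Scheme.{u}) [CompactSpace X'] (f : X' ⟶ X), Splits X' (pullK f z₂)) :
    ∃ (X' : Scheme.{u}) (_ : CompactSpace X') (f : X' ⟶ X), Function.Injective (pullK f) ∧
      pullK f z₁ ∈ smallSpan X' ∧ pullK f z₂ ∈ smallSpan X' := by
  obtain ⟨X₁, hc, f, hi, hm⟩ := h₁
  haveI := hc
  obtain ⟨X₂, hc', g, hi', hm'⟩ := h₂ X₁ f
  refine ⟨X₂, hc', g ≫ f, by rw [pullK_comp]; exact hi'.comp hi, ?_, ?_⟩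
  · rw [pullK_comp]; exact pullK_mem_smallSpan g hm
  · rw [pullK_comp]; exact hm'

theorem splits_bundle [CompactSpace X] {E : X.Modules} (hE : FlatMod.IsFinLocFree E) : Splits X (KRR.cl X E) := by
  have hloc : IsLocallyConstant fun x : X => rk E x := QCoh.isLocallyConstant_rank hE
  obtain ⟨N, hN⟩ := hloc.range_finite.bddAbove
  obtain ⟨G, hG, hr, hs⟩ := exists_sum_small N (fun x => N - rk E x) (hloc.comp fun k => N - k) fun x => Nat.sub_le _ _
  have hEG := isFinLocFree_biprod hE hG
  have hrk : FlatMod.IsFinLocFreeOfRank N (E ⊞ G) := H6KB.isFinLocFreeOfRank_of_rk hEG fun x => by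
    refine (rk_add (ShortComplex.Splitting.ofHasBinaryBiproduct E G).shortExact hE hG x).trans ?_
    show rk E x + rk G x = N
    have := hN (Set.mem_range_self x)
    rw [hr x]
    omega
  obtain ⟨X', hc, f, hi, hm⟩ := splits_rank N X _ hrk
  refine ⟨X', hc, f, hi, ?_⟩
  rw [cl_biprod hE hG, map_add] at hm
  exact (AddSubgroup.add_mem_cancel_right _ (pullK_mem_smallSpan f hs)).1 hm

theorem splits_all [CompactSpace X] (z : SGA6.Kvb X) : Splits X z := by
  obtain ⟨A, B, hA, hB, rfl⟩ := exists_sub_cl z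
  obtain ⟨X', hc, f, hi, h1, h2⟩ := (splits_bundle hA).add (z₂ := KRR.cl X B) fun X' _ f => by
    rw [pullK_cl f hB]
    exact splits_bundle (KFlatLib.isFinLocFree_pullback f hB)
  exact ⟨X', hc, f, hi, by rw [map_sub]; exact sub_mem h1 h2⟩

/-- Two classes split simultaneously. -/
theorem splits_two [CompactSpace X] (x y : SGA6.Kvb X) :
    ∃ (X' : Scheme.{u}) (_ : CompactSpace X') (f : X' ⟶ X), Function.Injective (pullK f) ∧
      pullK f x ∈ smallSpan X' ∧ pullK f y ∈ smallSpan X' :=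
  (splits_all x).add fun _ _ f => splits_all (pullK f y)

end Groth.Agent.H6KS
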